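import Mathlib
import Cfsg.Agent.S0059

/-!
# Coprime action in `MulDistribMulAction` form

`A` acts by automorphisms on `G`, `|A|`, `|G|` coprime, one of them solvable.

* `glauberman`: Glauberman's lemma;
* `exists_fixed_of_class`: an invariant conjugacy class contains a fixed point;
* `exists_inv_sylow_centralizing`: if `c` is fixed by `A` and centralises a Sylow `q`-subgroup, then
  it centralises an `A`-invariant one; `inv_sylow_conj`: the invariant Sylow `q`-subgroups are
  conjugate under the fixed points;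
* `exists_fixed_lift`: fixed points in quotients.
-/

set_option autoImplicit false

namespace Cfsg.Agent.H532.CopAct

open Subgroup
open scoped Pointwise

universe u v w

section Main

variable {A : Type u} {G : Type v} [Group A] [Finite A] [Group G] [Finite G]
  [MulDistribMulAction A G]

/-- The action of the semidirect product. -/
@[reducible] def semiAct {Ω : Type w} [MulAction G Ω] [MulAction A Ω]
    (hcompat : ∀ (a : A) (g : G) (ω : Ω), a • (g • ω) = (a • g) • (a • ω)) :
    MulAction (G ⋊[MulDistribMulAction.toMulAut A G] A) Ω where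
  smul γ ω := γ.left • (γ.right • ω)
  one_smul ω := by
    change (1 : G) • ((1 : A) • ω) = ω
    rw [one_smul, one_smul]
  mul_smul γ δ ω := by
    change (γ.left * (γ.right • δ.left)) • ((γ.right * δ.right) • ω)
      = γ.left • (γ.right • (δ.left • (δ.right • ω)))
    rw [hcompat, mul_smul, mul_smul]

/-- **Glauberman's lemma.** -/
theorem glauberman {Ω : Type w} [Nonempty Ω] [MulAction G Ω] [MulAction A Ω]
    (hcompat : ∀ (a : A) (g : G) (ω : Ω), a • (g • ω) = (a • g) • (a • ω))
    (hcop : (Nat.card A).Coprime (Nat.card G))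
    (hsolv : Group.IsSolvable A ∨ Group.IsSolvable G) (htrans : ∀ ω ω' : Ω, ∃ g : G, g • ω = ω') :
    (∃ ω : Ω, ∀ a : A, a • ω = ω) ∧
      ∀ ω ω' : Ω, (∀ a : A, a • ω = ω) → (∀ a : A, a • ω' = ω') →
        ∃ g : G, (∀ a : A, a • g = g) ∧ g • ω = ω' := by
  classical
  let φ := MulDistribMulAction.toMulAut A G
  have : Finite (G ⋊[φ] A) := Finite.of_equiv _ (SemidirectProduct.equivProd (φ := φ)).symm
  let _ := semiAct (A := A) (G := G) (Ω := Ω) hcompat
  let K : Subgroup (G ⋊[φ] A) := (SemidirectProduct.inl : G →* G ⋊[φ] A).range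
  let B : Subgroup (G ⋊[φ] A) := (SemidirectProduct.inr : A →* G ⋊[φ] A).range
  have eK : G ≃* K := MonoidHom.ofInjective SemidirectProduct.inl_injective
  have eB : A ≃* B := MonoidHom.ofInjective SemidirectProduct.inr_injective
  have hcK : Nat.card K = Nat.card G := (Nat.card_congr eK.toEquiv).symm
  have hcB : Nat.card B = Nat.card A := (Nat.card_congr eB.toEquiv).symm
  have hKker : K = (SemidirectProduct.rightHom : G ⋊[φ] A →* A).ker :=
    SemidirectProduct.range_inl_eq_ker_rightHom
  have hKn : K.Normal := by rw [hKker]; infer_instance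
  have hcard : Nat.card (G ⋊[φ] A) = Nat.card G * Nat.card A := by
    rw [Nat.card_congr (SemidirectProduct.equivProd (φ := φ)), Nat.card_prod]
  have hcompl : Subgroup.IsComplement' K B := by
    apply Subgroup.isComplement'_of_coprime
    · rw [hcK, hcB, hcard]
    · rw [hcK, hcB]; exact hcop.symm
  have hindex : K.index = Nat.card A := by
    have h1 := K.card_mul_index
    rw [hcK, hcard] at h1
    exact Nat.eq_of_mul_eq_mul_left Nat.card_pos h1
  have hsm_inl : ∀ (g : G) (ω : Ω), (SemidirectProduct.inl g : G ⋊[φ] A) • ω = g • ω := by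
    intro g ω
    change g • ((1 : A) • ω) = g • ω
    rw [one_smul]
  have hsm_inr : ∀ (a : A) (ω : Ω), (SemidirectProduct.inr a : G ⋊[φ] A) • ω = a • ω := by
    intro a ω
    change (1 : G) • (a • ω) = a • ω
    rw [one_smul]
  have hconj : ∀ (a : A) (g : G), (SemidirectProduct.inr a : G ⋊[φ] A) *
      SemidirectProduct.inl g * (SemidirectProduct.inr a)⁻¹ = SemidirectProduct.inl (a • g) := by
    intro a g
    rw [← map_inv, ← SemidirectProduct.inl_aut]
    rfl
  have hsolv' : Group.IsSolvable K ∨ Group.IsSolvable ((G ⋊[φ] A) ⧸ K) := by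
    rcases hsolv with h | h
    · right
      have : Function.Surjective ((QuotientGroup.mk' K).comp
          (SemidirectProduct.inr : A →* G ⋊[φ] A)) := by
        intro x
        obtain ⟨γ, rfl⟩ := QuotientGroup.mk'_surjective K x
        refine ⟨γ.right, ?_⟩
        rw [MonoidHom.comp_apply, QuotientGroup.mk'_apply, QuotientGroup.mk'_apply,
          QuotientGroup.eq, hKker, MonoidHom.mem_ker, map_mul, map_inv,
          SemidirectProduct.rightHom_inr]
        simp
      exact Group.isSolvable_of_surjective this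
    · left
      exact Group.isSolvable_of_surjective (f := eK.toMonoidHom) eK.surjective
  obtain ⟨⟨ω, hω⟩, h2⟩ := Cfsg.Agent.S0059.result (G := G ⋊[φ] A) (X := Ω) K B hcompl
    (by rw [hindex, hcK]; exact hcop.symm) hsolv'
    ⟨by
      intro x y
      obtain ⟨g, hg⟩ := htrans x y
      refine ⟨⟨SemidirectProduct.inl g, g, rfl⟩, ?_⟩
      change (SemidirectProduct.inl g : G ⋊[φ] A) • x = y
      rw [hsm_inl, hg]⟩
  refine ⟨⟨ω, ?_⟩, ?_⟩
  · intro a
    rw [← hsm_inr]
    exact hω _ ⟨a, rfl⟩
  · intro x y hx hy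
    obtain ⟨k, hk, hkxy⟩ := h2 x y
      (by rintro _ ⟨a, rfl⟩; rw [hsm_inr]; exact hx a)
      (by rintro _ ⟨a, rfl⟩; rw [hsm_inr]; exact hy a)
    obtain ⟨⟨g, rfl⟩, hk2⟩ := hk
    refine ⟨g, ?_, by rw [← hsm_inl]; exact hkxy⟩
    intro a
    have h3 := (Subgroup.mem_centralizer_iff.1 hk2) (SemidirectProduct.inr a) ⟨a, rfl⟩
    have h4 := hconj a g
    rw [h3, mul_inv_cancel_right] at h4
    exact (SemidirectProduct.inl_injective h4).symm

/-- An invariant conjugacy class contains a fixed point. -/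
theorem exists_fixed_of_class (hcop : (Nat.card A).Coprime (Nat.card G))
    (hsolv : Group.IsSolvable A ∨ Group.IsSolvable G) (C : ConjClasses G)
    (hC : ∀ a : A, ∀ g ∈ C.carrier, a • g ∈ C.carrier) :
    ∃ x ∈ C.carrier, ∀ a : A, a • x = x := by
  classical
  let actG : MulAction G C.carrier :=
    { smul := fun g x => ⟨g * x * g⁻¹, by
        have hx := x.2
        rw [ConjClasses.mem_carrier_iff_mk_eq] at hx ⊢
        exact (ConjClasses.mk_eq_mk_iff_isConj.2 (isConj_iff.2 ⟨g, rfl⟩)).symm.trans hx⟩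
      one_smul := fun x => Subtype.ext (by change 1 * (x : G) * 1⁻¹ = x; simp)
      mul_smul := fun g h x => Subtype.ext (by
        change g * h * (x : G) * (g * h)⁻¹ = g * (h * x * h⁻¹) * g⁻¹
        group) }
  let actA : MulAction A C.carrier :=
    { smul := fun a x => ⟨a • (x : G), hC a x x.2⟩
      one_smul := fun x => Subtype.ext (by change (1 : A) • (x : G) = x; simp)
      mul_smul := fun a b x => Subtype.ext (by
        change (a * b) • (x : G) = a • b • (x : G)
        rw [mul_smul]) }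
  have : Nonempty C.carrier := by
    obtain ⟨g, rfl⟩ := ConjClasses.exists_rep C
    exact ⟨⟨g, ConjClasses.mem_carrier_mk⟩⟩
  obtain ⟨⟨x, hx⟩, -⟩ := glauberman (A := A) (G := G) (Ω := C.carrier)
    (by
      intro a g x
      apply Subtype.ext
      change a • (g * (x : G) * g⁻¹) = (a • g) * (a • (x : G)) * (a • g)⁻¹
      rw [smul_mul', smul_mul', smul_inv'])
    hcop hsolv
    (by
      rintro ⟨x, hx⟩ ⟨y, hy⟩
      rw [ConjClasses.mem_carrier_iff_mk_eq] at hx hy
      have : IsConj x y := by rw [← ConjClasses.mk_eq_mk_iff_isConj, hx, hy]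
      obtain ⟨g, hg⟩ := isConj_iff.1 this
      exact ⟨g, Subtype.ext hg⟩)
  exact ⟨x, x.2, fun a => congrArg Subtype.val (hx a)⟩

/-- Fixed points in quotients lift. -/
theorem exists_fixed_lift (hcop : (Nat.card A).Coprime (Nat.card G))
    (hsolv : Group.IsSolvable A ∨ Group.IsSolvable G) (N : Subgroup G) [N.Normal]
    (hN : ∀ a : A, ∀ x ∈ N, a • x ∈ N) (g : G) (hg : ∀ a : A, g⁻¹ * (a • g) ∈ N) :
    ∃ c : G, (∀ a : A, a • c = c) ∧ g⁻¹ * c ∈ N := by
  classical
  let Ω := {x : G // g⁻¹ * x ∈ N}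
  let actAN : MulDistribMulAction A N :=
    { smul := fun a x => ⟨a • (x : G), hN a x x.2⟩
      one_smul := fun x => Subtype.ext (one_smul A (x : G))
      mul_smul := fun a b x => Subtype.ext (mul_smul a b (x : G))
      smul_mul := fun a x y => Subtype.ext (smul_mul' a (x : G) (y : G))
      smul_one := fun a => Subtype.ext (smul_one a) }
  let actN : MulAction N Ω :=
    { smul := fun n x => ⟨(x : G) * (n : G)⁻¹, by
        rw [← mul_assoc]; exact N.mul_mem x.2 (N.inv_mem n.2)⟩
      one_smul := fun x => Subtype.ext (by change (x : G) * ((1 : N) : G)⁻¹ = x; simp)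
      mul_smul := fun m n x => Subtype.ext (by
        change (x : G) * ((m * n : N) : G)⁻¹ = (x : G) * (n : G)⁻¹ * (m : G)⁻¹
        rw [Subgroup.coe_mul]; group) }
  let actA : MulAction A Ω :=
    { smul := fun a x => ⟨a • (x : G), by
        have h1 : g⁻¹ * (a • (x : G)) = (g⁻¹ * (a • g)) * (a • (g⁻¹ * (x : G))) := by
          rw [smul_mul', smul_inv']; group
        rw [h1]
        exact N.mul_mem (hg a) (hN a _ x.2)⟩
      one_smul := fun x => Subtype.ext (one_smul A (x : G))
      mul_smul := fun a b x => Subtype.ext (mul_smul a b (x : G)) }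
  have : Nonempty Ω := ⟨⟨g, by rw [inv_mul_cancel]; exact N.one_mem⟩⟩
  have hsolv' : Group.IsSolvable A ∨ Group.IsSolvable N := by
    rcases hsolv with h | h
    · exact Or.inl h
    · exact Or.inr inferInstance
  obtain ⟨⟨x, hx⟩, -⟩ := glauberman (A := A) (G := N) (Ω := Ω)
    (by
      intro a n x
      apply Subtype.ext
      change a • ((x : G) * (n : G)⁻¹) = (a • (x : G)) * (a • (n : G))⁻¹
      rw [smul_mul', smul_inv'])
    (hcop.coprime_dvd_right (Subgroup.card_subgroup_dvd_card N)) hsolv'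
    (by
      rintro ⟨x, hx⟩ ⟨y, hy⟩
      refine ⟨⟨y⁻¹ * x, ?_⟩, Subtype.ext ?_⟩
      · have : y⁻¹ * x = (g⁻¹ * y)⁻¹ * (g⁻¹ * x) := by group
        rw [this]; exact N.mul_mem (N.inv_mem hy) hx
      · change x * (y⁻¹ * x)⁻¹ = y
        group)
  exact ⟨x, fun a => congrArg Subtype.val (hx a), x.2⟩

omit [Finite A] [Finite G] in
theorem smul_conj_sylow {q : ℕ} [Fact q.Prime] (a : A) (g : G) (P : Sylow q G) :
    a • (g • P) = (a • g) • (a • P) := by
  apply Sylow.ext
  ext x
  constructor
  · intro hx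
    have hx' : x ∈ a • (((g • P : Sylow q G) : Subgroup G)) := hx
    rw [Subgroup.mem_pointwise_smul_iff_inv_smul_mem] at hx'
    have h2 : a⁻¹ • x ∈ (MulAut.conj g • (P : Subgroup G)) := hx'
    rw [Subgroup.mem_pointwise_smul_iff_inv_smul_mem] at h2
    change x ∈ MulAut.conj (a • g) • (a • (P : Subgroup G))
    rw [Subgroup.mem_pointwise_smul_iff_inv_smul_mem, Subgroup.mem_pointwise_smul_iff_inv_smul_mem]
    convert h2 using 1
    simp [MulAut.smul_def, MulAut.inv_def, smul_mul', smul_inv']
  · intro hx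
    have hx' : x ∈ MulAut.conj (a • g) • (a • (P : Subgroup G)) := hx
    rw [Subgroup.mem_pointwise_smul_iff_inv_smul_mem,
      Subgroup.mem_pointwise_smul_iff_inv_smul_mem] at hx'
    change x ∈ a • (MulAut.conj g • (P : Subgroup G))
    rw [Subgroup.mem_pointwise_smul_iff_inv_smul_mem, Subgroup.mem_pointwise_smul_iff_inv_smul_mem]
    convert hx' using 1
    simp [smul_mul', smul_inv']

/-- Invariant Sylow subgroups exist, and are conjugate under the fixed points. -/
theorem inv_sylow (hcop : (Nat.card A).Coprime (Nat.card G))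
    (hsolv : Group.IsSolvable A ∨ Group.IsSolvable G) (q : ℕ) [Fact q.Prime] :
    (∃ P : Sylow q G, ∀ a : A, a • P = P) ∧
      ∀ P P' : Sylow q G, (∀ a : A, a • P = P) → (∀ a : A, a • P' = P') →
        ∃ g : G, (∀ a : A, a • g = g) ∧ g • P = P' :=
  glauberman (A := A) (G := G) (Ω := Sylow q G) (fun a g P => smul_conj_sylow a g P) hcop hsolv
    (fun P P' => MulAction.exists_smul_eq G P P')

/-- An invariant subgroup has an invariant Sylow `q`-subgroup. -/
theorem inv_sylow_sub (hcop : (Nat.card A).Coprime (Nat.card G))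
    (hsolv : Group.IsSolvable A ∨ Group.IsSolvable G) (q : ℕ) [Fact q.Prime] (H : Subgroup G)
    (hH : ∀ a : A, ∀ x ∈ H, a • x ∈ H) :
    ∃ Q : Sylow q H, ∀ (a : A) (x : G), x ∈ (Q : Subgroup H).map H.subtype →
      a • x ∈ (Q : Subgroup H).map H.subtype := by
  classical
  let actAH : MulDistribMulAction A H :=
    { smul := fun a x => ⟨a • (x : G), hH a x x.2⟩
      one_smul := fun x => Subtype.ext (one_smul A (x : G))
      mul_smul := fun a b x => Subtype.ext (mul_smul a b (x : G))
      smul_mul := fun a x y => Subtype.ext (smul_mul' a (x : G) (y : G))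
      smul_one := fun a => Subtype.ext (smul_one a) }
  have hsolv' : Group.IsSolvable A ∨ Group.IsSolvable H := by
    rcases hsolv with h | h
    · exact Or.inl h
    · exact Or.inr inferInstance
  obtain ⟨⟨Q, hQ⟩, -⟩ := inv_sylow (A := A) (G := H)
    (hcop.coprime_dvd_right (Subgroup.card_subgroup_dvd_card H)) hsolv' q
  refine ⟨Q, ?_⟩
  rintro b _ ⟨y, hy, rfl⟩
  refine ⟨b • y, ?_, rfl⟩
  have h2 : b • y ∈ b • Q := by
    change b • y ∈ b • (Q : Subgroup H)
    exact Subgroup.smul_mem_pointwise_smul _ _ _ hy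
  rw [hQ b] at h2
  exact h2

omit [Finite A] [Finite G] in
theorem smul_sylow_eq {q : ℕ} (P : Sylow q G)
    (hP : ∀ (a : A) (x : G), x ∈ (P : Subgroup G) → a • x ∈ (P : Subgroup G)) (a : A) :
    a • P = P := by
  apply Sylow.ext
  change a • (P : Subgroup G) = (P : Subgroup G)
  ext x
  rw [Subgroup.mem_pointwise_smul_iff_inv_smul_mem]
  constructor
  · intro hx
    have := hP a _ hx
    rwa [smul_inv_smul] at this
  · exact hP a⁻¹ x

omit [Finite A] [Finite G] in
theorem smul_mem_of_smul_eq {q : ℕ} (P : Sylow q G) (hP : ∀ a : A, a • P = P) (a : A) {x : G}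
    (hx : x ∈ (P : Subgroup G)) : a • x ∈ (P : Subgroup G) := by
  have h2 : a • x ∈ a • P := by
    change a • x ∈ a • (P : Subgroup G)
    exact Subgroup.smul_mem_pointwise_smul _ _ _ hx
  rw [hP a] at h2
  exact h2

/-- If the invariant subgroup `H` has index prime to `q`, it contains an invariant Sylow
`q`-subgroup of `G`. -/
theorem exists_inv_sylow_le (hcop : (Nat.card A).Coprime (Nat.card G))
    (hsolv : Group.IsSolvable A ∨ Group.IsSolvable G) (q : ℕ) [Fact q.Prime] (H : Subgroup G)
    (hH : ∀ a : A, ∀ x ∈ H, a • x ∈ H) (hq : ¬ q ∣ H.index) :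
    ∃ P : Sylow q G, (∀ a : A, a • P = P) ∧ (P : Subgroup G) ≤ H := by
  obtain ⟨Q, hQ⟩ := inv_sylow_sub hcop hsolv q H hH
  have hcard : Nat.card ((Q : Subgroup H).map H.subtype) = q ^ (Nat.card G).factorization q := by
    rw [Nat.card_congr ((Q : Subgroup H).equivMapOfInjective H.subtype
      H.subtype_injective).symm.toEquiv, Sylow.card_eq_multiplicity Q]
    congr 1
    rw [← H.card_mul_index, Nat.factorization_mul Nat.card_pos.ne'
      Subgroup.index_ne_zero_of_finite, Finsupp.add_apply,
      Nat.factorization_eq_zero_of_not_dvd hq, add_zero]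
  refine ⟨Sylow.ofCard _ hcard, smul_sylow_eq _ hQ, ?_⟩
  change (Q : Subgroup H).map H.subtype ≤ H
  rintro _ ⟨y, -, rfl⟩
  exact y.2

/-- An invariant `q`-subgroup lies in an invariant Sylow `q`-subgroup. -/
theorem exists_inv_sylow_ge (hcop : (Nat.card A).Coprime (Nat.card G))
    (hsolv : Group.IsSolvable A ∨ Group.IsSolvable G) (q : ℕ) [hq : Fact q.Prime] (U : Subgroup G)
    (hU : IsPGroup q U) (hUA : ∀ a : A, ∀ x ∈ U, a • x ∈ U) :
    ∃ P : Sylow q G, (∀ a : A, a • P = P) ∧ U ≤ (P : Subgroup G) := by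
  obtain ⟨Q₀, hUQ, hmax⟩ := (Set.toFinite {V : Subgroup G | IsPGroup q V ∧
    ∀ a : A, ∀ x ∈ V, a • x ∈ V}).exists_le_maximal (a := U) ⟨hU, hUA⟩
  have hNinv : ∀ a : A, ∀ x ∈ normalizer (Q₀ : Set G), a • x ∈ normalizer (Q₀ : Set G) := by
    have hiff : ∀ (a : A) (x : G), a • x ∈ Q₀ ↔ x ∈ Q₀ := by
      intro a x
      constructor
      · intro h
        have := hmax.prop.2 a⁻¹ _ h
        rwa [inv_smul_smul] at this
      · exact hmax.prop.2 a x
    intro a x hx
    rw [Subgroup.mem_normalizer_iff] at hx ⊢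
    intro h
    have h1 : h = a • (a⁻¹ • h) := (smul_inv_smul a h).symm
    have h2 : (a • x) * h * (a • x)⁻¹ = a • (x * (a⁻¹ • h) * x⁻¹) := by
      rw [smul_mul', smul_mul', smul_inv', smul_inv_smul]
    have e2 := hx (a⁻¹ • h)
    rw [h2, hiff, ← e2]
    rw [hiff]
  obtain ⟨Q, hQ⟩ := inv_sylow_sub hcop hsolv q _ hNinv
  have hle : Q₀ ≤ (Q : Subgroup ↥(normalizer (Q₀ : Set G))).map
      (normalizer (Q₀ : Set G)).subtype := by
    have hn : (Q₀.subgroupOf (normalizer (Q₀ : Set G))).Normal :=
      Subgroup.normal_in_normalizer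
    have hp : IsPGroup q (Q₀.subgroupOf (normalizer (Q₀ : Set G))) :=
      hmax.prop.1.comap_of_injective _ (normalizer (Q₀ : Set G)).subtype_injective
    have h1 := hp.le_sylow_of_normal Q
    intro x hx
    exact ⟨⟨x, Subgroup.le_normalizer hx⟩, h1 (by rw [Subgroup.mem_subgroupOf]; exact hx), rfl⟩
  have heq : (Q : Subgroup ↥(normalizer (Q₀ : Set G))).map (normalizer (Q₀ : Set G)).subtype
      = Q₀ := by
    refine le_antisymm (hmax.le_of_ge ⟨Q.isPGroup'.map _, fun a x hx => hQ a x hx⟩ hle) hle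
  have hcQ : Nat.card Q₀ = Nat.card Q := by
    conv_lhs => rw [← heq]
    exact Nat.card_congr ((Q : Subgroup ↥(normalizer (Q₀ : Set G))).equivMapOfInjective _
      (normalizer (Q₀ : Set G)).subtype_injective).symm.toEquiv
  obtain ⟨n, hn⟩ := IsPGroup.iff_card.1 hmax.prop.1
  have hnot : ¬ q ^ (n + 1) ∣ Nat.card G := by
    intro hdvd
    have h1 := Sylow.prime_dvd_card_quotient_normalizer hdvd hn
    have h2 : Nat.card (↥(normalizer (Q₀ : Set G)) ⧸
        Q₀.comap (normalizer (Q₀ : Set G)).subtype)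
        = (Q : Subgroup ↥(normalizer (Q₀ : Set G))).index := by
      change (Q₀.comap (normalizer (Q₀ : Set G)).subtype).index = _
      congr 1
      have e1 := Subgroup.comap_map_eq_self_of_injective
        (normalizer (Q₀ : Set G)).subtype_injective (Q : Subgroup ↥(normalizer (Q₀ : Set G)))
      exact (congrArg (Subgroup.comap (normalizer (Q₀ : Set G)).subtype) heq).symm.trans e1
    rw [h2] at h1
    exact Q.not_dvd_index h1
  have hcard : Nat.card Q₀ = q ^ (Nat.card G).factorization q := by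
    rw [hn]
    congr 1
    apply le_antisymm
    · apply (hq.out.pow_dvd_iff_le_factorization Nat.card_pos.ne').1
      rw [← hn]; exact Subgroup.card_subgroup_dvd_card Q₀
    · by_contra hcon
      push Not at hcon
      exact hnot ((hq.out.pow_dvd_iff_le_factorization Nat.card_pos.ne').2 hcon)
  exact ⟨Sylow.ofCard Q₀ hcard, smul_sylow_eq _ (fun a x hx => hmax.prop.2 a x hx), hUQ⟩

end Main

section Quot

variable {A : Type u} {G : Type v} [Group A] [Group G] [MulDistribMulAction A G]

/-- The action on the quotient by an invariant normal subgroup. -/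
@[reducible] def quotAct (N : Subgroup G) [N.Normal] (hN : ∀ a : A, ∀ x ∈ N, a • x ∈ N) :
    MulDistribMulAction A (G ⧸ N) where
  smul a := QuotientGroup.map N N (MulDistribMulAction.toMonoidHom G a) (fun x hx => hN a x hx)
  one_smul x := by
    obtain ⟨g, rfl⟩ := QuotientGroup.mk_surjective x
    change ((((1 : A) • g : G)) : G ⧸ N) = _
    rw [one_smul]
  mul_smul a b x := by
    obtain ⟨g, rfl⟩ := QuotientGroup.mk_surjective x
    change ((((a * b) • g : G)) : G ⧸ N) = ((a • (b • g) : G) : G ⧸ N)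
    rw [mul_smul]
  smul_one a := by
    change ((a • (1 : G) : G) : G ⧸ N) = _
    rw [smul_one]
    rfl
  smul_mul a x y := map_mul (QuotientGroup.map N N (MulDistribMulAction.toMonoidHom G a) _) x y

theorem quotAct_smul_mk (N : Subgroup G) [N.Normal] (hN : ∀ a : A, ∀ x ∈ N, a • x ∈ N) (a : A)
    (g : G) : letI := quotAct N hN
    (a • (g : G ⧸ N)) = ((a • g : G) : G ⧸ N) := rfl

/-- Fixed points of the quotient are images of fixed points. -/
theorem exists_fixed_mk [Finite A] [Finite G] (hcop : (Nat.card A).Coprime (Nat.card G))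
    (hsolv : Group.IsSolvable A ∨ Group.IsSolvable G) (N : Subgroup G) [N.Normal]
    (hN : ∀ a : A, ∀ x ∈ N, a • x ∈ N) (x : G ⧸ N)
    (hx : letI := quotAct N hN; ∀ a : A, a • x = x) :
    ∃ c : G, (∀ a : A, a • c = c) ∧ (c : G ⧸ N) = x := by
  obtain ⟨g, rfl⟩ := QuotientGroup.mk_surjective x
  obtain ⟨c, hc, hgc⟩ := exists_fixed_lift hcop hsolv N hN g (fun a => by
    have h1 := hx a
    rw [quotAct_smul_mk] at h1
    exact QuotientGroup.eq.1 h1.symm)
  exact ⟨c, hc, (QuotientGroup.eq.2 hgc).symm⟩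

end Quot

end Cfsg.Agent.H532.CopAct
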