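import Mathlib
import Cfsg.Agent.H532.CopAct
import Cfsg.Agent.LieRecognition.FT61.O3
import Cfsg.Agent.SmallSimple.SelfCentPrime

/-!
# Invariant classes of a coprime action with disconnected common divisor graph

`core`: the noncentral fixed points of the coprime automorphism group `A` of `G` are of two types
`P`, `Q`, with class sizes of the first type prime to those of the second, both occurring, and the
largest class size occurs for `Q`. Then there is an invariant abelian normal subgroup `N` of `G`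
such that the fixed points of `A` on `G / N` form a nilpotent group.
-/

set_option autoImplicit false

namespace Cfsg.Agent.H532.CopClass

open Subgroup
open scoped Pointwise

universe u v

section General

variable {G : Type v} [Group G] [Finite G]

/-- the size of the class of `x` -/
noncomputable def cs (x : G) : ℕ := (centralizer ({x} : Set G)).index

theorem cs_pos (x : G) : 0 < cs x := Nat.pos_of_ne_zero Subgroup.index_ne_zero_of_finite

theorem cs_eq_ncard (x : G) : cs x = {y : G | IsConj x y}.ncard := by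
  have h1 := Cfsg.Agent.SmallSimple.SelfCentPrime.card_carrier_mul_card_centralizer x
  have h2 := (centralizer ({x} : Set G)).card_mul_index
  have h3 : Nat.card (ConjClasses.mk x).carrier = {y : G | IsConj x y}.ncard := by
    rw [Nat.card_coe_set_eq]
    congr 1
  rw [← h3]
  rw [← h2, mul_comm] at h1
  exact (Nat.eq_of_mul_eq_mul_left Nat.card_pos h1).symm

omit [Finite G] in
theorem cs_eq_one_iff (x : G) : cs x = 1 ↔ x ∈ center G := by
  unfold cs
  rw [Subgroup.index_eq_one, Subgroup.mem_center_iff]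
  constructor
  · intro h g
    have : g ∈ centralizer ({x} : Set G) := by rw [h]; trivial
    rwa [Subgroup.mem_centralizer_singleton_iff] at this
  · intro h
    rw [eq_top_iff]
    intro g _
    rw [Subgroup.mem_centralizer_singleton_iff]
    exact h g

theorem one_lt_cs {x : G} (h : x ∉ center G) : 1 < cs x := by
  have h1 := cs_pos x
  have h2 : cs x ≠ 1 := fun h2 => h ((cs_eq_one_iff x).1 h2)
  omega

omit [Finite G] in
theorem cs_dvd_of_le {x y : G} (h : centralizer ({x} : Set G) ≤ centralizer ({y} : Set G)) :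
    cs y ∣ cs x := Subgroup.index_dvd_of_le h

omit [Finite G] in
theorem centralizer_le_pow (x : G) (k : ℕ) :
    centralizer ({x} : Set G) ≤ centralizer ({x ^ k} : Set G) := by
  intro g hg
  rw [Subgroup.mem_centralizer_singleton_iff] at hg ⊢
  exact (Commute.pow_right (show Commute g x from hg) k)

/-- A noncentral element has a noncentral power of prime power order, for a prime dividing its
order. -/
theorem exists_pow_noncentral (x : G) (Z : Subgroup G) (h : x ∉ Z) :
    ∃ (s : ℕ) (k j : ℕ), s.Prime ∧ s ∣ orderOf x ∧ orderOf (x ^ k) = s ^ j ∧ x ^ k ∉ Z := by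
  classical
  -- least positive `m` with `x ^ m ∈ Z`
  have hex : ∃ m : ℕ, 0 < m ∧ x ^ m ∈ Z := ⟨orderOf x, orderOf_pos x, by
    rw [pow_orderOf_eq_one]; exact Z.one_mem⟩
  let m := Nat.find hex
  have hm : 0 < m ∧ x ^ m ∈ Z := Nat.find_spec hex
  have hmin : ∀ k : ℕ, 0 < k → x ^ k ∈ Z → m ≤ k := fun k h1 h2 => Nat.find_min' hex ⟨h1, h2⟩
  have hdvd : ∀ k : ℕ, x ^ k ∈ Z → m ∣ k := by
    intro k hk
    rw [Nat.dvd_iff_mod_eq_zero]
    by_contra hcon
    have h1 : x ^ (k % m) ∈ Z := by
      have e : x ^ k = (x ^ m) ^ (k / m) * x ^ (k % m) := by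
        rw [← pow_mul, ← pow_add, Nat.div_add_mod]
      rw [e] at hk
      exact (Z.mul_mem_cancel_left (Z.pow_mem hm.2 _)).1 hk
    have h2 := hmin _ (Nat.pos_of_ne_zero hcon) h1
    have h3 := Nat.mod_lt k hm.1
    omega
  have hm1 : m ≠ 1 := by
    intro h1
    have := hm.2
    rw [h1, pow_one] at this
    exact h this
  obtain ⟨s, hs, hsm⟩ := Nat.exists_prime_and_dvd hm1
  have hso : s ∣ orderOf x := hsm.trans (hdvd _ (by rw [pow_orderOf_eq_one]; exact Z.one_mem))
  refine ⟨s, orderOf x / s ^ (orderOf x).factorization s, (orderOf x).factorization s, hs, hso,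
    ?_, ?_⟩
  · rw [orderOf_pow_of_dvd]
    · exact Nat.div_div_self (Nat.ordProj_dvd _ _) (orderOf_pos x).ne'
    · exact (Nat.div_pos (Nat.ordProj_le s (orderOf_pos x).ne')
        (pow_pos hs.pos _)).ne'
    · exact Nat.div_dvd_of_dvd (Nat.ordProj_dvd _ _)
  · intro hcon
    have h1 := hsm.trans (hdvd _ hcon)
    exact Nat.not_dvd_ordCompl hs (orderOf_pos x).ne' h1

/-- Coprime class sizes: the product of the classes is a class. -/
theorem conj_mul_of_coprime {x y : G} (h : (cs x).Coprime (cs y)) (g k : G) :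
    IsConj (x * y) (g * x * g⁻¹ * (k * y * k⁻¹)) := by
  classical
  -- `C(y)` is transitive on the cosets of `C(x)`
  set X := centralizer ({x} : Set G)
  set Y := centralizer ({y} : Set G)
  have hXY : (X ⊓ Y).index = X.index * Y.index := by
    apply le_antisymm
    · exact Subgroup.index_inf_le
    · apply Nat.le_of_dvd (Nat.pos_of_ne_zero Subgroup.index_ne_zero_of_finite)
      exact Nat.Coprime.mul_dvd_of_dvd_of_dvd h (Subgroup.index_dvd_of_le inf_le_left)
        (Subgroup.index_dvd_of_le inf_le_right)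
  have hrel : X.relIndex Y = X.index := by
    have h1 := Subgroup.relIndex_mul_index (inf_le_right : X ⊓ Y ≤ Y)
    rw [hXY, Subgroup.inf_relIndex_right] at h1
    exact Nat.eq_of_mul_eq_mul_right (Nat.pos_of_ne_zero Subgroup.index_ne_zero_of_finite) h1
  -- the map `Y → G ⧸ X` is surjective
  have hsurj : ∀ t : G, ∃ b ∈ Y, ∃ a ∈ X, t = b * a := by
    intro t
    let f : (Y ⧸ X.subgroupOf Y) → (G ⧸ X) := Quotient.map' (fun b : Y => (b : G)) (by
      intro b c hbc
      rw [QuotientGroup.leftRel_apply] at hbc ⊢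
      simpa [Subgroup.mem_subgroupOf] using hbc)
    have hinj : Function.Injective f := by
      intro b c
      refine Quotient.inductionOn₂' b c ?_
      intro b c hbc
      have h1 : (QuotientGroup.mk (b : G) : G ⧸ X) = QuotientGroup.mk (c : G) := hbc
      rw [QuotientGroup.eq] at h1
      apply Quotient.sound'
      rw [QuotientGroup.leftRel_apply, Subgroup.mem_subgroupOf]
      simpa using h1
    have hbij : Function.Bijective f := by
      rw [Nat.bijective_iff_injective_and_card]
      exact ⟨hinj, hrel⟩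
    obtain ⟨b, hb⟩ := hbij.2 (QuotientGroup.mk t)
    obtain ⟨b, rfl⟩ := QuotientGroup.mk_surjective b
    have h1 : (QuotientGroup.mk (b : G) : G ⧸ X) = QuotientGroup.mk t := hb
    rw [QuotientGroup.eq] at h1
    exact ⟨b, b.2, (b : G)⁻¹ * t, h1, by group⟩
  obtain ⟨b, hb, a, ha, hba⟩ := hsurj (k⁻¹ * g)
  have hb' : b * y = y * b := by
    have := hb; rwa [Subgroup.mem_centralizer_singleton_iff] at this
  have ha' : a * x = x * a := by
    have := ha; rwa [Subgroup.mem_centralizer_singleton_iff] at this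
  rw [isConj_iff]
  refine ⟨k * b, ?_⟩
  have hg : g = k * b * a := by rw [mul_assoc, ← hba]; group
  have e1 : g * x * g⁻¹ = k * b * x * (k * b)⁻¹ := by
    rw [hg]
    calc k * b * a * x * (k * b * a)⁻¹ = k * b * (a * x) * a⁻¹ * (k * b)⁻¹ := by group
      _ = k * b * (x * a) * a⁻¹ * (k * b)⁻¹ := by rw [ha']
      _ = k * b * x * (k * b)⁻¹ := by group
  have e2 : k * y * k⁻¹ = k * b * y * (k * b)⁻¹ := by
    calc k * y * k⁻¹ = k * (y * b) * b⁻¹ * k⁻¹ := by group
      _ = k * (b * y) * b⁻¹ * k⁻¹ := by rw [hb']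
      _ = k * b * y * (k * b)⁻¹ := by group
  rw [e1, e2]
  group

theorem cs_mul_dvd {x y : G} (h : (cs x).Coprime (cs y)) : cs (x * y) ∣ cs x * cs y := by
  have hXY : (centralizer ({x} : Set G) ⊓ centralizer ({y} : Set G)).index = cs x * cs y := by
    apply le_antisymm
    · exact Subgroup.index_inf_le
    · apply Nat.le_of_dvd (Nat.pos_of_ne_zero Subgroup.index_ne_zero_of_finite)
      exact Nat.Coprime.mul_dvd_of_dvd_of_dvd h (Subgroup.index_dvd_of_le inf_le_left)
        (Subgroup.index_dvd_of_le inf_le_right)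
  rw [← hXY]
  apply Subgroup.index_dvd_of_le
  intro g hg
  have h1 : g ∈ centralizer ({x} : Set G) := hg.1
  have h2 : g ∈ centralizer ({y} : Set G) := hg.2
  rw [Subgroup.mem_centralizer_singleton_iff] at h1 h2 ⊢
  exact (show Commute g x from h1).mul_right h2

/-- A normal subgroup whose order is prime to the class size of `x` centralises `x`. -/
theorem commute_of_coprime (N : Subgroup G) [N.Normal] (x : G)
    (h : (Nat.card N).Coprime (cs x)) : ∀ n ∈ N, n * x = x * n := by
  set C := centralizer ({x} : Set G) with hC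
  have h1 : C.relIndex N = C.relIndex (C ⊔ N) := by
    have e1 := Subgroup.relIndex_mul_relIndex (C ⊓ N) C (C ⊔ N) inf_le_left le_sup_left
    have e2 := Subgroup.relIndex_mul_relIndex (C ⊓ N) N (C ⊔ N) inf_le_right le_sup_right
    rw [Subgroup.inf_relIndex_left] at e1
    rw [Subgroup.inf_relIndex_right, Subgroup.relIndex_sup_right] at e2
    rw [← e2, mul_comm] at e1
    have hpos : 0 < N.relIndex C :=
      Nat.pos_of_ne_zero (Subgroup.index_ne_zero_of_finite (H := N.subgroupOf C))
    exact (Nat.eq_of_mul_eq_mul_right hpos e1).symm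
  have h2 : C.relIndex N ∣ cs x := by
    rw [h1]
    exact ⟨_, (Subgroup.relIndex_mul_index (le_sup_left : C ≤ C ⊔ N)).symm⟩
  have h3 : C.relIndex N ∣ Nat.card N := Subgroup.relIndex_dvd_card C N
  have h4 : C.relIndex N = 1 := Nat.eq_one_of_dvd_coprimes h h3 h2
  rw [Subgroup.relIndex_eq_one] at h4
  intro n hn
  have := h4 hn
  rwa [hC, Subgroup.mem_centralizer_singleton_iff] at this

theorem cs_conj (x g : G) : cs (g * x * g⁻¹) = cs x := by
  rw [cs_eq_ncard, cs_eq_ncard]
  congr 1
  ext y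
  have h : IsConj x (g * x * g⁻¹) := isConj_iff.2 ⟨g, rfl⟩
  exact ⟨fun h1 => h.trans h1, fun h1 => h.symm.trans h1⟩

omit [Finite G] in
theorem exists_pow_mul_eq {x y : G} (hxy : x * y = y * x)
    (h : (orderOf x).Coprime (orderOf y)) : ∃ k : ℕ, (x * y) ^ k = x := by
  obtain ⟨k, hk1, hk2⟩ := Nat.chineseRemainder h 1 0
  refine ⟨k, ?_⟩
  rw [(show Commute x y from hxy).mul_pow]
  have h1 : x ^ k = x := by
    conv_rhs => rw [← pow_one x]
    exact pow_eq_pow_iff_modEq.2 hk1
  have h2 : y ^ k = 1 := by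
    rw [← pow_zero y]
    exact pow_eq_pow_iff_modEq.2 hk2
  rw [h1, h2, mul_one]

omit [Finite G] in
theorem isPGroup_zpowers {x : G} {q k : ℕ} (hq : q.Prime) (h : x ^ (q ^ k) = 1) :
    IsPGroup q (zpowers x) := by
  obtain ⟨n, -, hn⟩ := (Nat.dvd_prime_pow hq).1 (orderOf_dvd_of_pow_eq_one h)
  exact IsPGroup.of_card (n := n) (by rw [Nat.card_zpowers, hn])

end General

section Core

variable {A : Type u} {G : Type v} [Group A] [Group G] [Finite G]
  [MulDistribMulAction A G]

/-- The hypotheses. -/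
structure Data (A : Type u) {G : Type v} [Group A] [Group G]
    [MulDistribMulAction A G] (P Q : G → Prop) : Prop where
  hcop : (Nat.card A).Coprime (Nat.card G)
  hsolv : Group.IsSolvable A ∨ Group.IsSolvable G
  fixP : ∀ x, P x → ∀ a : A, a • x = x
  fixQ : ∀ x, Q x → ∀ a : A, a • x = x
  ncP : ∀ x, P x → x ∉ center G
  ncQ : ∀ x, Q x → x ∉ center G
  cover : ∀ x, (∀ a : A, a • x = x) → x ∉ center G → P x ∨ Q x
  cop : ∀ x y, P x → Q y → (cs x).Coprime (cs y)

variable {P Q : G → Prop}

omit [Finite G] in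
theorem Data.symm (D : Data A P Q) : Data A Q P where
  hcop := D.hcop
  hsolv := D.hsolv
  fixP := D.fixQ
  fixQ := D.fixP
  ncP := D.ncQ
  ncQ := D.ncP
  cover := fun x h1 h2 => (D.cover x h1 h2).symm
  cop := fun x y h1 h2 => (D.cop y x h2 h1).symm

theorem Data.of_dvd (D : Data A P Q) {x z : G} (hx : P x) (hz : ∀ a : A, a • z = z)
    (hzc : z ∉ center G) (h : cs z ∣ cs x) : P z := by
  rcases D.cover z hz hzc with h1 | h1
  · exact h1
  · exfalso
    have h2 := D.cop x z hx h1
    have h3 := Nat.eq_one_of_dvd_coprimes h2 h (dvd_refl _)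
    have h4 := one_lt_cs hzc
    omega

theorem Data.of_dvd' (D : Data A P Q) {x z : G} (hx : P x) (hz : ∀ a : A, a • z = z)
    (h : cs x ∣ cs z) : P z := by
  have h0 := one_lt_cs (D.ncP x hx)
  have hzc : z ∉ center G := by
    intro hc
    rw [(cs_eq_one_iff z).2 hc, Nat.dvd_one] at h
    omega
  rcases D.cover z hz hzc with h1 | h1
  · exact h1
  · exfalso
    have h2 := D.cop x z hx h1
    have h3 := Nat.eq_one_of_dvd_coprimes h2 (dvd_refl _) h
    omega

theorem Data.not_both (D : Data A P Q) {x : G} (hx : P x) (hy : Q x) : False := by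
  have h2 := D.cop x x hx hy
  rw [Nat.coprime_self] at h2
  have h0 := one_lt_cs (D.ncP x hx)
  omega

theorem Data.not_commute (D : Data A P Q) {x y : G} (hx : P x) (hy : Q y) (hxy : x * y = y * x)
    (h : (orderOf x).Coprime (orderOf y)) : False := by
  have hz : ∀ a : A, a • (x * y) = x * y := by
    intro a; rw [smul_mul', D.fixP x hx, D.fixQ y hy]
  obtain ⟨k, hk⟩ := exists_pow_mul_eq hxy h
  obtain ⟨l, hl⟩ := exists_pow_mul_eq hxy.symm h.symm
  rw [← hxy] at hl
  have h1 : cs x ∣ cs (x * y) := by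
    conv_lhs => rw [← hk]
    exact cs_dvd_of_le (centralizer_le_pow _ _)
  have h2 : cs y ∣ cs (x * y) := by
    conv_lhs => rw [← hl]
    exact cs_dvd_of_le (centralizer_le_pow _ _)
  exact D.not_both (D.of_dvd' hx hz h1) (D.symm.of_dvd' hy hz h2)

theorem Data.conj (D : Data A P Q) {x f : G} (hx : P x) (hf : ∀ a : A, a • f = f) :
    P (f * x * f⁻¹) := by
  apply D.of_dvd' hx
  · intro a
    rw [smul_mul', smul_mul', smul_inv', hf, D.fixP x hx]
  · rw [cs_conj]

theorem Data.exists_prime (D : Data A P Q) {x : G} (hx : P x) :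
    ∃ (s : ℕ) (y : G) (j : ℕ), s.Prime ∧ P y ∧ orderOf y = s ^ j := by
  obtain ⟨s, k, j, hs, -, h1, h2⟩ := exists_pow_noncentral x (center G) (D.ncP x hx)
  refine ⟨s, x ^ k, j, hs, D.of_dvd hx ?_ h2 (cs_dvd_of_le (centralizer_le_pow _ _)), h1⟩
  intro a
  rw [smul_pow', D.fixP x hx]

/-- The class of `y₀` is stable under `[G, x]`. -/
theorem Data.stab (D : Data A P Q) {y₀ : G} (hy₀ : Q y₀) (hmax : ∀ x, P x → cs x < cs y₀)
    {x : G} (hx : P x) (g d : G) (hd : IsConj y₀ d) : IsConj y₀ (x⁻¹ * (g * x * g⁻¹) * d) := by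
  classical
  have hcopr := D.cop x y₀ hx hy₀
  let S : Set G := {d | IsConj y₀ d}
  let E : Set G := {e | IsConj (x * y₀) e}
  have hsub : ∀ g : G, (fun d => g * x * g⁻¹ * d) '' S ⊆ E := by
    rintro g _ ⟨d, hd, rfl⟩
    obtain ⟨k, hk⟩ := isConj_iff.1 hd
    rw [← hk]
    exact conj_mul_of_coprime hcopr g k
  have hcardim : ∀ g : G, ((fun d => g * x * g⁻¹ * d) '' S).ncard = cs y₀ := by
    intro g
    rw [Set.ncard_image_of_injective _ (mul_right_injective _), cs_eq_ncard]
  have hfix : ∀ a : A, a • (x * y₀) = x * y₀ := by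
    intro a; rw [smul_mul', D.fixP x hx, D.fixQ y₀ hy₀]
  have hge : cs y₀ ≤ cs (x * y₀) := by
    rw [← hcardim 1, cs_eq_ncard (x * y₀)]
    exact Set.ncard_le_ncard (hsub 1) (Set.toFinite _)
  have hlt := hmax x hx
  have hdvd := cs_mul_dvd hcopr
  have hnc : x * y₀ ∉ center G := by
    intro hc
    rw [(cs_eq_one_iff _).2 hc] at hge
    have := one_lt_cs (D.ncQ y₀ hy₀)
    omega
  have hle : cs (x * y₀) ≤ cs y₀ := by
    rcases D.cover _ hfix hnc with h | h
    · exfalso
      have h1 : cs (x * y₀) ∣ cs x := (D.cop _ _ h hy₀).dvd_of_dvd_mul_right hdvd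
      have h2 := Nat.le_of_dvd (cs_pos x) h1
      omega
    · have h1 : cs (x * y₀) ∣ cs y₀ := (D.cop _ _ hx h).symm.dvd_of_dvd_mul_left hdvd
      exact Nat.le_of_dvd (cs_pos y₀) h1
  have heq : ∀ g : G, (fun d => g * x * g⁻¹ * d) '' S = E := by
    intro g
    apply Set.eq_of_subset_of_ncard_le (hsub g) _ (Set.toFinite _)
    rw [hcardim g]
    change (Set.ncard {e | IsConj (x * y₀) e}) ≤ _
    rw [← cs_eq_ncard]
    exact hle
  have h1 : g * x * g⁻¹ * d ∈ (fun d => 1 * x * 1⁻¹ * d) '' S := by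
    rw [heq 1, ← heq g]
    exact ⟨d, hd, rfl⟩
  obtain ⟨d', hd', h2⟩ := h1
  have h3 : x⁻¹ * (g * x * g⁻¹) * d = d' := by
    have : x * d' = g * x * g⁻¹ * d := by simpa using h2
    rw [mul_assoc x⁻¹, ← this]; group
  rw [h3]
  exact hd'

/-- `[G, x]` for all `x` of the first type. -/
def comm (P : G → Prop) : Subgroup G := closure {n | ∃ x g, P x ∧ n = x⁻¹ * (g * x * g⁻¹)}

omit [Finite G] in
theorem comm_normal (P : G → Prop) : (comm P).Normal := by
  constructor
  intro n hn g
  induction hn using Subgroup.closure_induction with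
  | mem n hn =>
    obtain ⟨x, k, hx, rfl⟩ := hn
    have h1 : g * (x⁻¹ * (k * x * k⁻¹)) * g⁻¹
        = (x⁻¹ * (g * x * g⁻¹))⁻¹ * (x⁻¹ * ((g * k) * x * (g * k)⁻¹)) := by group
    rw [h1]
    exact (comm P).mul_mem ((comm P).inv_mem (Subgroup.subset_closure ⟨x, g, hx, rfl⟩))
      (Subgroup.subset_closure ⟨x, g * k, hx, rfl⟩)
  | one => simp
  | mul a b _ _ ha hb =>
    have : g * (a * b) * g⁻¹ = (g * a * g⁻¹) * (g * b * g⁻¹) := by group
    rw [this]; exact (comm P).mul_mem ha hb
  | inv a _ ha =>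
    have : g * a⁻¹ * g⁻¹ = (g * a * g⁻¹)⁻¹ := by group
    rw [this]; exact (comm P).inv_mem ha

omit [Finite G] in
theorem Data.comm_inv (D : Data A P Q) (a : A) : ∀ n ∈ comm P, a • n ∈ comm P := by
  intro n hn
  induction hn using Subgroup.closure_induction with
  | mem n hn =>
    obtain ⟨x, k, hx, rfl⟩ := hn
    rw [smul_mul', smul_mul', smul_mul', smul_inv', smul_inv', D.fixP x hx]
    exact Subgroup.subset_closure ⟨x, a • k, hx, rfl⟩
  | one => rw [smul_one]; exact (comm P).one_mem
  | mul x y _ _ hx hy => rw [smul_mul']; exact (comm P).mul_mem hx hy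
  | inv x _ hx => rw [smul_inv']; exact (comm P).inv_mem hx

theorem Data.comm_stab (D : Data A P Q) {y₀ : G} (hy₀ : Q y₀) (hmax : ∀ x, P x → cs x < cs y₀) :
    ∀ n ∈ comm P, ∀ d, IsConj y₀ d → IsConj y₀ (n * d) := by
  classical
  -- the stabiliser of the class under left multiplication
  let S : Set G := {d | IsConj y₀ d}
  have hfin : ∀ n : G, (∀ d, IsConj y₀ d → IsConj y₀ (n * d)) →
      ∀ d, IsConj y₀ d → IsConj y₀ (n⁻¹ * d) := by
    intro n hn d hd
    have h1 : (fun d => n * d) '' S ⊆ S := by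
      rintro _ ⟨e, he, rfl⟩
      exact hn e he
    have h2 : (fun d => n * d) '' S = S := by
      apply Set.eq_of_subset_of_ncard_le h1 _ (Set.toFinite _)
      rw [Set.ncard_image_of_injective _ (mul_right_injective _)]
    have h3 : d ∈ (fun d => n * d) '' S := by rw [h2]; exact hd
    obtain ⟨e, he, rfl⟩ := h3
    change IsConj y₀ (n⁻¹ * (n * e))
    rw [inv_mul_cancel_left]
    exact he
  intro n hn
  induction hn using Subgroup.closure_induction with
  | mem n hn =>
    obtain ⟨x, k, hx, rfl⟩ := hn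
    intro d hd
    exact D.stab hy₀ hmax hx k d hd
  | one => intro d hd; simpa using hd
  | mul a b _ _ ha hb => intro d hd; rw [mul_assoc]; exact ha _ (hb _ hd)
  | inv a _ ha => exact hfin a ha

theorem Data.card_comm_dvd (D : Data A P Q) {y₀ : G} (hy₀ : Q y₀)
    (hmax : ∀ x, P x → cs x < cs y₀) : Nat.card (comm P) ∣ cs y₀ := by
  classical
  let S : Set G := {d | IsConj y₀ d}
  let act : MulAction (comm P) S :=
    { smul := fun n d => ⟨(n : G) * d, D.comm_stab hy₀ hmax n n.2 d d.2⟩
      one_smul := fun d => Subtype.ext (one_mul (d : G))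
      mul_smul := fun m n d => Subtype.ext (mul_assoc (m : G) (n : G) (d : G)) }
  have hfree : ∀ b : S, MulAction.stabilizer (comm P) b = ⊥ := by
    intro b
    rw [eq_bot_iff]
    intro n hn
    rw [MulAction.mem_stabilizer_iff] at hn
    have h1 : (n : G) * b = b := congrArg Subtype.val hn
    rw [Subgroup.mem_bot]
    apply Subtype.ext
    simpa using h1
  have e := MulAction.selfEquivOrbitsQuotientProd hfree
  have h1 := Nat.card_congr e
  rw [Nat.card_prod, Nat.card_coe_set_eq] at h1
  rw [cs_eq_ncard]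
  change _ ∣ S.ncard
  rw [h1]
  exact Dvd.intro_left _ rfl

/-- Elements of the first type centralise `[G, x]`. -/
theorem Data.comm_commute (D : Data A P Q) {y₀ : G} (hy₀ : Q y₀)
    (hmax : ∀ x, P x → cs x < cs y₀) {x : G} (hx : P x) : ∀ n ∈ comm P, n * x = x * n := by
  have := comm_normal P
  apply commute_of_coprime (comm P) x
  exact Nat.Coprime.coprime_dvd_left (D.card_comm_dvd hy₀ hmax) (D.cop x y₀ hx hy₀).symm

theorem Data.comm_comm (D : Data A P Q) {y₀ : G} (hy₀ : Q y₀)
    (hmax : ∀ x, P x → cs x < cs y₀) : ∀ m ∈ comm P, ∀ n ∈ comm P, m * n = n * m := by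
  have hn := comm_normal P
  intro m hm n hn'
  induction hm using Subgroup.closure_induction with
  | mem m hm =>
    obtain ⟨x, g, hx, rfl⟩ := hm
    have h1 : Commute n x := D.comm_commute hy₀ hmax hx n hn'
    have h2 : Commute n (g * x * g⁻¹) := by
      have h3 : g⁻¹ * n * g ∈ comm P := by simpa using hn.conj_mem n hn' g⁻¹
      have h4 := D.comm_commute hy₀ hmax hx _ h3
      change n * (g * x * g⁻¹) = g * x * g⁻¹ * n
      calc n * (g * x * g⁻¹) = g * (g⁻¹ * n * g * x) * g⁻¹ := by group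
        _ = g * (x * (g⁻¹ * n * g)) * g⁻¹ := by rw [h4]
        _ = g * x * g⁻¹ * n := by group
    exact ((h1.inv_right).mul_right h2).symm
  | one => simp
  | mul a b _ _ ha hb => exact ((show Commute a n from ha).mul_left hb)
  | inv a _ ha => exact (show Commute a n from ha).inv_left

/-- If an element of the first type has order a power of `q`, then `q` divides the largest
class size. -/
theorem Data.dvd_of_pElement (D : Data A P Q) {y₀ : G} (hy₀ : Q y₀)
    (hmax : ∀ x, P x → cs x < cs y₀) {x : G} (hx : P x) {q j : ℕ} (hq : q.Prime)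
    (ho : orderOf x = q ^ j) : q ∣ cs y₀ := by
  have hnc := D.ncP x hx
  rw [Subgroup.mem_center_iff] at hnc
  push Not at hnc
  obtain ⟨g, hg⟩ := hnc
  have hn : x⁻¹ * (g * x * g⁻¹) ∈ comm P := Subgroup.subset_closure ⟨x, g, hx, rfl⟩
  have hne : x⁻¹ * (g * x * g⁻¹) ≠ 1 := by
    intro h
    apply hg
    have h1 : g * x * g⁻¹ = x := by
      have := congrArg (fun t => x * t) h
      simpa using this
    calc g * x = (g * x * g⁻¹) * g := by group
      _ = x * g := by rw [h1]
  have hc1 : Commute (x⁻¹ * (g * x * g⁻¹)) x := D.comm_commute hy₀ hmax hx _ hn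
  have hc2 : Commute (g * x * g⁻¹) x := by
    have : g * x * g⁻¹ = x * (x⁻¹ * (g * x * g⁻¹)) := by group
    rw [this]
    exact (Commute.refl x).mul_left hc1
  have hpow : (x⁻¹ * (g * x * g⁻¹)) ^ (q ^ j) = 1 := by
    have e : (g * x * g⁻¹) ^ (q ^ j) = 1 := by
      rw [conj_pow, ← ho, pow_orderOf_eq_one]; group
    rw [(hc2.symm.inv_left).mul_pow, e, inv_pow, ← ho, pow_orderOf_eq_one]
    simp
  have h1 : orderOf (x⁻¹ * (g * x * g⁻¹)) ∣ q ^ j := orderOf_dvd_of_pow_eq_one hpow
  obtain ⟨i, hi, h2⟩ := (Nat.dvd_prime_pow hq).1 h1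
  have hi0 : i ≠ 0 := by
    rintro rfl
    rw [pow_zero, orderOf_eq_one_iff] at h2
    exact hne h2
  have h3 : q ∣ orderOf (x⁻¹ * (g * x * g⁻¹)) := by rw [h2]; exact dvd_pow_self q hi0
  have h4 : orderOf (x⁻¹ * (g * x * g⁻¹)) ∣ Nat.card (comm P) := by
    have := orderOf_dvd_natCard (⟨_, hn⟩ : comm P)
    rwa [Subgroup.orderOf_mk] at this
  exact h3.trans (h4.trans (D.card_comm_dvd hy₀ hmax))

end Core

section Quot

open Cfsg.Agent.H532.CopAct

variable {A : Type u} {G : Type v} [Group A] [Finite A] [Group G] [Finite G]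
  [MulDistribMulAction A G] {P Q : G → Prop}

omit [Finite G] in
theorem cs_mk_dvd (N : Subgroup G) [N.Normal] (d : G) : cs (d : G ⧸ N) ∣ cs d := by
  unfold cs
  have h1 : (centralizer ({(d : G ⧸ N)} : Set (G ⧸ N))).index
      = ((centralizer ({(d : G ⧸ N)} : Set (G ⧸ N))).comap (QuotientGroup.mk' N)).index :=
    (Subgroup.index_comap_of_surjective _ (QuotientGroup.mk'_surjective N)).symm
  rw [h1]
  apply Subgroup.index_dvd_of_le
  intro g hg
  rw [Subgroup.mem_centralizer_singleton_iff] at hg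
  rw [Subgroup.mem_comap, Subgroup.mem_centralizer_singleton_iff]
  change ((g * d : G) : G ⧸ N) = ((d * g : G) : G ⧸ N)
  rw [hg]

omit [Finite A] [Finite G] in
theorem commute_mk_of_P (P : G → Prop) [(comm P).Normal] {x : G} (hx : P x) (g : G) :
    (x : G ⧸ comm P) * (g : G ⧸ comm P) = (g : G ⧸ comm P) * (x : G ⧸ comm P) := by
  change ((x * g : G) : G ⧸ comm P) = ((g * x : G) : G ⧸ comm P)
  rw [QuotientGroup.eq]
  have h1 : x⁻¹ * (g * x * g⁻¹) ∈ comm P := Subgroup.subset_closure ⟨x, g, hx, rfl⟩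
  have h2 := (inferInstance : (comm P).Normal).conj_mem _ h1 g⁻¹
  have h3 : (x * g)⁻¹ * (g * x) = g⁻¹ * (x⁻¹ * (g * x * g⁻¹)) * g⁻¹⁻¹ := by group
  rw [h3]
  exact h2

theorem Data.central (D : Data A P Q) {x₀ : G} (hx₀ : P x₀) {s j : ℕ}
    (hs : s.Prime) (ho : orderOf x₀ = s ^ j) [hn : (comm P).Normal] {q : ℕ} (hq : q.Prime)
    (hqs : q ≠ s) {c d : G} (hc : ∀ a : A, a • c = c) (hd : ∀ a : A, a • d = d) {k : ℕ}
    (hck : c ^ (q ^ k) ∈ comm P) :
    (c : G ⧸ comm P) * (d : G ⧸ comm P) = (d : G ⧸ comm P) * (c : G ⧸ comm P) := by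
  classical
  have : Fact q.Prime := ⟨hq⟩
  have hNinv : ∀ a : A, ∀ x ∈ comm P, a • x ∈ comm P := D.comm_inv
  -- central elements are harmless
  have hcen : ∀ c : G, c ∈ center G → ∀ d : G,
      (c : G ⧸ comm P) * (d : G ⧸ comm P) = (d : G ⧸ comm P) * (c : G ⧸ comm P) := by
    intro c hc d
    change ((c * d : G) : G ⧸ comm P) = ((d * c : G) : G ⧸ comm P)
    rw [(Subgroup.mem_center_iff.1 hc) d]
  by_cases hcase : ∃ x₁, P x₁ ∧ q ∣ cs x₁
  · obtain ⟨x₁, hx₁, hqx₁⟩ := hcase
    let act : MulDistribMulAction A (G ⧸ comm P) := quotAct (comm P) hNinv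
    have hcopQ : (Nat.card A).Coprime (Nat.card (G ⧸ comm P)) :=
      D.hcop.coprime_dvd_right (Subgroup.card_quotient_dvd_card (comm P))
    have hsolvQ : Group.IsSolvable A ∨ Group.IsSolvable (G ⧸ comm P) := by
      rcases D.hsolv with h | h
      · exact Or.inl h
      · exact Or.inr inferInstance
    obtain ⟨⟨R, hR⟩, hRconj⟩ := inv_sylow (A := A) (G := G ⧸ comm P) hcopQ hsolvQ q
    -- class sizes of fixed points of the quotient are prime to `q`
    have hndvd : ∀ x : G ⧸ comm P, (∀ a : A, a • x = x) → ¬ q ∣ cs x := by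
      intro x hx
      obtain ⟨e, he, rfl⟩ := exists_fixed_mk D.hcop D.hsolv (comm P) hNinv x hx
      intro hdvd
      by_cases hec : e ∈ center G
      · have h1 : cs (e : G ⧸ comm P) ∣ 1 := by
          have := cs_mk_dvd (comm P) e
          rwa [(cs_eq_one_iff e).2 hec] at this
        exact hq.one_lt.ne' (Nat.dvd_one.1 (hdvd.trans h1))
      · rcases D.cover e he hec with h | h
        · have h1 : (e : G ⧸ comm P) ∈ center (G ⧸ comm P) := by
            rw [Subgroup.mem_center_iff]
            intro g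
            obtain ⟨g, rfl⟩ := QuotientGroup.mk_surjective g
            exact (commute_mk_of_P P h g).symm
          rw [(cs_eq_one_iff _).2 h1, Nat.dvd_one] at hdvd
          exact hq.one_lt.ne' hdvd
        · have h1 : q ∣ cs e := hdvd.trans (cs_mk_dvd (comm P) e)
          exact hq.one_lt.ne' (Nat.eq_one_of_dvd_coprimes (D.cop x₁ e hx₁ h) hqx₁ h1)
    let F : Subgroup (G ⧸ comm P) := FixedPoints.subgroup A (G ⧸ comm P)
    have hF : F ≤ centralizer ((R : Subgroup (G ⧸ comm P)) : Set (G ⧸ comm P)) := by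
      let H₀ : Subgroup F := (centralizer ((R : Subgroup (G ⧸ comm P)) :
        Set (G ⧸ comm P))).subgroupOf F
      have htop : H₀ = ⊤ := by
        by_contra hcon
        obtain ⟨g, hg⟩ := Cfsg.Agent.LieRecognition.FT61.O3.exists_not_conj H₀ hcon
        have hgfix : ∀ a : A, a • (g : G ⧸ comm P) = g := fun a => g.2 a
        obtain ⟨R₁, hR₁, hR₁le⟩ := exists_inv_sylow_le (A := A) hcopQ hsolvQ q
          (centralizer ({(g : G ⧸ comm P)} : Set (G ⧸ comm P)))
          (by
            intro a x hx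
            rw [Subgroup.mem_centralizer_singleton_iff] at hx ⊢
            have h1 := congrArg (fun t => a • t) hx
            simp only [smul_mul', hgfix] at h1
            exact h1)
          (hndvd _ hgfix)
        obtain ⟨f, hf, hfR⟩ := hRconj R R₁ hR hR₁
        apply hg ⟨f, hf⟩
        change f⁻¹ * (g : G ⧸ comm P) * f ∈ centralizer _
        rw [Subgroup.mem_centralizer_iff]
        intro r hr
        have h2 : f * r * f⁻¹ ∈ (R₁ : Subgroup (G ⧸ comm P)) := by
          rw [← hfR]
          change f * r * f⁻¹ ∈ MulAut.conj f • (R : Subgroup (G ⧸ comm P))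
          rw [Subgroup.mem_pointwise_smul_iff_inv_smul_mem]
          have : (MulAut.conj f)⁻¹ • (f * r * f⁻¹) = r := by
            rw [← map_inv]
            simp [MulAut.smul_def, mul_assoc]
          rw [this]; exact hr
        have h3 := hR₁le h2
        rw [Subgroup.mem_centralizer_singleton_iff] at h3
        calc r * (f⁻¹ * (g : G ⧸ comm P) * f) = f⁻¹ * (f * r * f⁻¹ * g) * f := by group
          _ = f⁻¹ * (g * (f * r * f⁻¹)) * f := by rw [h3]
          _ = f⁻¹ * (g : G ⧸ comm P) * f * r := by group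
      intro x hx
      have : (⟨x, hx⟩ : F) ∈ H₀ := by rw [htop]; trivial
      exact this
    have hcF : (c : G ⧸ comm P) ∈ F := by
      intro a
      rw [quotAct_smul_mk, hc]
    have hdF : (d : G ⧸ comm P) ∈ F := by
      intro a
      rw [quotAct_smul_mk, hd]
    have hcR : (c : G ⧸ comm P) ∈ (R : Subgroup (G ⧸ comm P)) := by
      have hz : IsPGroup q (zpowers (c : G ⧸ comm P)) := by
        apply isPGroup_zpowers hq (k := k)
        have h2 : ((c ^ (q ^ k) : G) : G ⧸ comm P) = 1 := (QuotientGroup.eq_one_iff _).2 hck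
        rw [← h2]; rfl
      have hle : zpowers (c : G ⧸ comm P) ≤
          normalizer ((R : Subgroup (G ⧸ comm P)) : Set (G ⧸ comm P)) := by
        rw [Subgroup.zpowers_le]
        exact Subgroup.centralizer_le_normalizer _ (hF hcF)
      have h1 := R.is_maximal' (hz.to_sup_of_normal_right' R.isPGroup' hle) le_sup_right
      have h2 : (c : G ⧸ comm P) ∈ zpowers (c : G ⧸ comm P) ⊔ (R : Subgroup (G ⧸ comm P)) :=
        (le_sup_left : zpowers (c : G ⧸ comm P) ≤ _) (mem_zpowers _)
      rwa [h1] at h2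
    exact (Subgroup.mem_centralizer_iff.1 (hF hdF)) _ hcR
  · push Not at hcase
    -- replace `c` by a `q`-element
    obtain ⟨m, hm1, hm2⟩ : ∃ m : ℕ, m ≡ 1 [MOD q ^ k] ∧
        m ≡ 0 [MOD (orderOf c / q ^ (orderOf c).factorization q)] := by
      have hco : (q ^ k).Coprime (orderOf c / q ^ (orderOf c).factorization q) :=
        Nat.Coprime.pow_left _ (Nat.coprime_ordCompl hq (orderOf_pos c).ne')
      obtain ⟨m, h1, h2⟩ := Nat.chineseRemainder hco 1 0
      exact ⟨m, h1, h2⟩
    have hmk : ((c ^ m : G) : G ⧸ comm P) = (c : G ⧸ comm P) := by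
      have h2 : ((c : G ⧸ comm P)) ^ (q ^ k) = 1 := by
        have h2 : ((c ^ (q ^ k) : G) : G ⧸ comm P) = 1 := (QuotientGroup.eq_one_iff _).2 hck
        rw [← h2]; rfl
      have h3 : ((c : G ⧸ comm P)) ^ m = ((c : G ⧸ comm P)) ^ 1 := by
        rw [pow_eq_pow_iff_modEq]
        exact hm1.of_dvd (orderOf_dvd_of_pow_eq_one h2)
      rw [pow_one] at h3
      rw [← h3]; rfl
    have hq1 : (c ^ m) ^ (q ^ (orderOf c).factorization q) = 1 := by
      rw [← pow_mul, ← orderOf_dvd_iff_pow_eq_one]
      have h1 : (orderOf c / q ^ (orderOf c).factorization q) ∣ m := by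
        rwa [← Nat.modEq_zero_iff_dvd]
      have h2 := Nat.mul_dvd_mul h1 (dvd_refl (q ^ (orderOf c).factorization q))
      rwa [Nat.div_mul_cancel (Nat.ordProj_dvd _ _)] at h2
    have hcfix : ∀ a : A, a • (c ^ m) = c ^ m := by
      intro a; rw [smul_pow', hc]
    rw [← hmk]
    generalize c ^ m = c' at hq1 hcfix
    by_cases hcc : c' ∈ center G
    · exact hcen c' hcc d
    · rcases D.cover c' hcfix hcc with h | h
      · exact commute_mk_of_P P h d
      · exfalso
        have hfixcen : ∀ a : A, ∀ x ∈ centralizer ({x₀} : Set G),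
            a • x ∈ centralizer ({x₀} : Set G) := by
          intro a x hx
          rw [Subgroup.mem_centralizer_singleton_iff] at hx ⊢
          have h1 := congrArg (fun t => a • t) hx
          simp only [smul_mul', D.fixP x₀ hx₀] at h1
          exact h1
        obtain ⟨R, hR, hRle⟩ := exists_inv_sylow_le (A := A) D.hcop D.hsolv q
          (centralizer ({x₀} : Set G)) hfixcen (hcase x₀ hx₀)
        have hz : IsPGroup q (zpowers c') := isPGroup_zpowers hq hq1
        obtain ⟨R', hR', hR'ge⟩ := exists_inv_sylow_ge (A := A) D.hcop D.hsolv q (zpowers c') hz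
          (by
            intro a x hx
            obtain ⟨n, rfl⟩ := Subgroup.mem_zpowers_iff.1 hx
            have : a • (c' ^ n) = c' ^ n := by
              rw [smul_zpow', hcfix]
            rw [this]; exact hx)
        obtain ⟨f, hf, hfR⟩ := (inv_sylow (A := A) (G := G) D.hcop D.hsolv q).2 R' R hR' hR
        have h2 : f * c' * f⁻¹ ∈ (R : Subgroup G) := by
          rw [← hfR]
          change f * c' * f⁻¹ ∈ MulAut.conj f • (R' : Subgroup G)
          rw [Subgroup.mem_pointwise_smul_iff_inv_smul_mem]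
          have : (MulAut.conj f)⁻¹ • (f * c' * f⁻¹) = c' := by
            rw [← map_inv]
            simp [MulAut.smul_def, mul_assoc]
          rw [this]; exact hR'ge (mem_zpowers _)
        have h3 := hRle h2
        rw [Subgroup.mem_centralizer_singleton_iff] at h3
        apply D.not_commute hx₀ (D.symm.conj h hf) h3.symm
        rw [ho]
        have h4 : orderOf (f * c' * f⁻¹) ∣ q ^ (orderOf c).factorization q := by
          apply orderOf_dvd_of_pow_eq_one
          rw [conj_pow, hq1]; group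
        apply Nat.Coprime.coprime_dvd_right h4
        exact Nat.Coprime.pow _ _ ((Nat.coprime_primes hs hq).2 hqs.symm)

theorem Data.nilpotent (D : Data A P Q) {x₀ : G} (hx₀ : P x₀) [hn : (comm P).Normal]
    (hNinv : ∀ a : A, ∀ x ∈ comm P, a • x ∈ comm P) :
    letI := quotAct (comm P) hNinv
    Group.IsNilpotent (FixedPoints.subgroup A (G ⧸ comm P)) := by
  classical
  obtain ⟨s, x₁, j, hs, hx₁, ho⟩ := D.exists_prime hx₀
  have : Fact s.Prime := ⟨hs⟩
  let act : MulDistribMulAction A (G ⧸ comm P) := quotAct (comm P) hNinv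
  let F : Subgroup (G ⧸ comm P) := FixedPoints.subgroup A (G ⧸ comm P)
  have key : ∀ (q : ℕ), q.Prime → q ≠ s → ∀ (f : F) (i : ℕ), orderOf f = q ^ i →
      f ∈ center F := by
    intro q hq hqs f i hf
    rw [Subgroup.mem_center_iff]
    intro e
    obtain ⟨c, hc, hcf⟩ := exists_fixed_mk D.hcop D.hsolv (comm P) hNinv (f : G ⧸ comm P)
      (fun a => f.2 a)
    obtain ⟨d, hd, hde⟩ := exists_fixed_mk D.hcop D.hsolv (comm P) hNinv (e : G ⧸ comm P)
      (fun a => e.2 a)
    have hck : c ^ (q ^ i) ∈ comm P := by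
      rw [← QuotientGroup.eq_one_iff]
      have h1 : f ^ (q ^ i) = 1 := by rw [← hf, pow_orderOf_eq_one]
      have h2 : (f : G ⧸ comm P) ^ (q ^ i) = 1 := congrArg Subtype.val h1
      rw [← hcf] at h2
      exact h2
    have h3 := D.central hx₁ hs ho hq hqs hc hd hck
    rw [hcf, hde] at h3
    exact Subtype.ext h3.symm
  have hp : IsPGroup s (F ⧸ center F) := by
    intro g
    obtain ⟨f, rfl⟩ := QuotientGroup.mk_surjective g
    refine ⟨(orderOf f).factorization s, ?_⟩
    change ((f ^ (s ^ (orderOf f).factorization s) : F) : F ⧸ center F) = 1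
    rw [QuotientGroup.eq_one_iff]
    by_contra hcon
    obtain ⟨q, k, i, hq, hqd, hqo, hqn⟩ := exists_pow_noncentral _ (center F) hcon
    have hqs : q ≠ s := by
      rintro rfl
      have h1 : orderOf (f ^ (q ^ (orderOf f).factorization q))
          = orderOf f / q ^ (orderOf f).factorization q :=
        orderOf_pow_of_dvd (pow_ne_zero _ hq.ne_zero) (Nat.ordProj_dvd _ _)
      rw [h1] at hqd
      exact Nat.not_dvd_ordCompl hq (orderOf_pos f).ne' hqd
    exact hqn (key q hq hqs _ i hqo)
  have h1 : Group.IsNilpotent (F ⧸ center F) := hp.isNilpotent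
  exact Group.of_quotient_center_nilpotent h1

/-- **Main theorem.** -/
theorem Data.main (D : Data A P Q) {x₀ y₀ : G} (hx₀ : P x₀) (hy₀ : Q y₀)
    (hmax : ∀ x, P x → cs x < cs y₀) :
    ∃ (N : Subgroup G) (_ : N.Normal) (hNinv : ∀ a : A, ∀ x ∈ N, a • x ∈ N),
      (∀ m ∈ N, ∀ n ∈ N, m * n = n * m) ∧
      (letI := quotAct N hNinv; Group.IsNilpotent (FixedPoints.subgroup A (G ⧸ N))) := by
  have hn := comm_normal P
  exact ⟨comm P, hn, D.comm_inv, D.comm_comm hy₀ hmax, D.nilpotent hx₀ _⟩

end Quot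

end Cfsg.Agent.H532.CopClass
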